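import Groth.Agent.TMul.AmpleBasis
import Groth.Agent.GrAvoid.Basic
import Mathlib.RingTheory.MvPolynomial.Homogeneous
import Mathlib.RingTheory.Artinian.Module

/-!
An affine generating locus of an ample module through the image of the spectrum of an algebra
which is integral over a field.
-/

set_option autoImplicit false
set_option backward.isDefEq.respectTransparency false
set_option linter.style.haveILetI false

universe u

open CategoryTheory CategoryTheory.Limits AlgebraicGeometry TopologicalSpace Opposite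
open Groth.Agent.QC (res resO res_res res_smul resO_resO app_res)

noncomputable section

namespace Groth.Agent.AmpleIntegralPts

attribute [local instance] MvPolynomial.gradedAlgebra

lemma aeval_mul_of_isHomogeneous {ι S : Type*} [CommRing S] {F : MvPolynomial ι ℤ} {m : ℕ}
    (hF : F.IsHomogeneous m) (lam : S) (c : ι → S) :
    MvPolynomial.aeval (fun i => lam * c i) F = lam ^ m * MvPolynomial.aeval c F := by
  classical
  conv_lhs => rw [F.as_sum]
  conv_rhs => rw [F.as_sum]
  rw [map_sum, map_sum, Finset.mul_sum]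
  refine Finset.sum_congr rfl fun d hd => ?_
  simp only [MvPolynomial.aeval_monomial, Finsupp.prod, mul_pow, Finset.prod_mul_distrib,
    Finset.prod_pow_eq_pow_sum]
  rw [show ∑ i ∈ d.support, d i = m from by
    simpa [Finsupp.weight_apply, Finsupp.sum] using hF (MvPolynomial.mem_support_iff.mp hd)]
  ring

lemma map_aeval_int {ι R S : Type*} [CommRing R] [CommRing S] (φ : R →+* S) (c : ι → R)
    (F : MvPolynomial ι ℤ) :
    φ (MvPolynomial.aeval c F) = MvPolynomial.aeval (fun i => φ (c i)) F := by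
  induction F using MvPolynomial.induction_on <;> simp_all

variable {X : Scheme.{u}} {M : X.Modules}

lemma val_zsmul (a : ℤ) (s : Coh.structureModule X ⟶ M) (U : X.Opens) :
    TMul.val (a • s) U = a • TMul.val s U :=
  map_zsmul (AddMonoidHom.mk' (fun φ : Coh.structureModule X ⟶ M => TMul.val φ U) fun _ _ => rfl) a s

/-- A monomial in sections of `M` as a section of a power of `M`. -/
lemma exists_monomial_section (hM : PicF.IsInvertible M) {ι : Type}
    (t : ι → (Coh.structureModule X ⟶ M)) (ht : ∀ i, IsAffineOpen (CohB1.genLocus M (t i))) :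
    ∀ (m : ℕ) (d : ι →₀ ℕ), d.degree = m → ∀ a : ℤ,
      ∃ σ : Coh.structureModule X ⟶ CohB1.tensorPow M m,
        (∀ (U : X.Opens) (e : Γ(M, U)) (c : ι → Γ(X, U)), (∀ i, TMul.val (t i) U = c i • e) →
          TMul.val σ U = MvPolynomial.aeval c (MvPolynomial.monomial d a) • TMul.pw e m) ∧
        (0 < m → ∃ i, IsAffineOpen (CohB1.genLocus _ σ) ∧
          CohB1.genLocus _ σ ≤ CohB1.genLocus M (t i)) := by
  classical
  intro m
  induction m with
  | zero =>
    intro d hd a
    obtain rfl : d = 0 := (Finsupp.degree_eq_zero_iff d).mp hd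
    refine ⟨a • 𝟙 (Coh.structureModule X), fun U e c _ => ?_, fun h => absurd h (lt_irrefl 0)⟩
    rw [val_zsmul, MvPolynomial.aeval_monomial, Finsupp.prod_zero_index, mul_one,
      eq_intCast (algebraMap ℤ Γ(X, U)), Int.cast_smul_eq_zsmul]
    rfl
  | succ m ih =>
    intro d hd a
    obtain ⟨i, hi⟩ : ∃ i, d i ≠ 0 := by
      by_contra! H
      rw [show d = 0 from Finsupp.ext H, map_zero] at hd
      omega
    let d' : ι →₀ ℕ := d - Finsupp.single i 1
    have hd' : d' + Finsupp.single i 1 = d := by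
      ext j
      by_cases h : i = j
      · subst h; simp [d']; omega
      · simp [d', Finsupp.single_eq_of_ne' h]
    obtain ⟨σ, hσ, -⟩ := ih d' (by
      have := congrArg Finsupp.degree hd'
      rw [map_add, Finsupp.degree_single, hd] at this
      omega) a
    refine ⟨SecTwist.tmulHom σ (t i), fun U e c hc => ?_, fun _ => ⟨i, ?_, ?_⟩⟩
    · refine (TMul.val_tmulHom σ (t i) U).trans ?_
      rw [hσ U e c hc, hc i, TMul.tm_smul, TMul.smul_tm, smul_smul]
      have : MvPolynomial.monomial d a = MvPolynomial.monomial d' a * MvPolynomial.X i := by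
        rw [MvPolynomial.X, MvPolynomial.monomial_mul, mul_one, hd']
      rw [this, map_mul, MvPolynomial.aeval_X, mul_comm]
      rfl
    · change IsAffineOpen (CohB1.genLocus (CohB1.tensorMod (CohB1.tensorPow M m) M) _)
      rw [TMul.genLocus_tmulHom (TMul.isInvertible_tensorPow hM m) hM, inf_comm]
      exact TMul.isAffineOpen_inf_genLocus (TMul.isInvertible_tensorPow hM m) σ (ht i)
    · change CohB1.genLocus (CohB1.tensorMod (CohB1.tensorPow M m) M) _ ≤ _
      rw [TMul.genLocus_tmulHom (TMul.isInvertible_tensorPow hM m) hM]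
      exact inf_le_right

/-- A homogeneous polynomial in sections of `M` as a section of a power of `M`. -/
lemma exists_polynomial_section (hM : PicF.IsInvertible M) {ι : Type}
    (t : ι → (Coh.structureModule X ⟶ M)) (ht : ∀ i, IsAffineOpen (CohB1.genLocus M (t i)))
    {W : X.Opens} (htW : ∀ i, CohB1.genLocus M (t i) ≤ W)
    (F : MvPolynomial ι ℤ) {m : ℕ} (hm : 0 < m) (hF : F.IsHomogeneous m) :
    ∃ σ : Coh.structureModule X ⟶ CohB1.tensorPow M m,
      (∀ (U : X.Opens) (e : Γ(M, U)) (c : ι → Γ(X, U)), (∀ i, TMul.val (t i) U = c i • e) →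
          TMul.val σ U = MvPolynomial.aeval c F • TMul.pw e m) ∧
      IsAffineOpen (CohB1.genLocus _ σ) ∧ CohB1.genLocus _ σ ≤ W := by
  classical
  choose σ hσ h using fun d : F.support => exists_monomial_section hM t ht m d.1 (by
    simpa [Finsupp.weight_apply, Finsupp.sum, Finsupp.degree_apply] using
      hF (MvPolynomial.mem_support_iff.mp d.2)) (F.coeff d.1)
  choose i hi hle using fun d => h d hm
  refine ⟨∑ d, σ d, fun U e c hc => ?_,
    TMul.isAffineOpen_genLocus_sum σ (TMul.isInvertible_tensorPow hM m) hi,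
    (TMul.genLocus_sum_le σ (TMul.isInvertible_tensorPow hM m)).trans
      (iSup_le fun d => (hle d).trans (htW _))⟩
  rw [TMul.val_sum, Finset.sum_congr rfl (fun d _ => hσ d U e c hc), ← Finset.sum_smul]
  congr 1
  conv_rhs => rw [F.as_sum, map_sum]
  exact Finset.sum_coe_sort F.support (fun d => MvPolynomial.aeval c (MvPolynomial.monomial d (F.coeff d)))

set_option maxHeartbeats 1000000 in
theorem exists_section {L : X.Modules} (hL : CohB1.IsAmple L) (k : Type u) [Field k]
    (A : Type u) [CommRing A] [Algebra k A] [Algebra.IsIntegral k A]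
    (W : X.Opens) (g : Spec (CommRingCat.of A) ⟶ X) (hg : Set.range g.base ⊆ (W : Set X)) :
    ∃ (n : ℕ) (s : Coh.structureModule X ⟶ CohB1.tensorPow L (n + 1)),
      IsAffineOpen (CohB1.genLocus _ s) ∧ CohB1.genLocus _ s ≤ W ∧
        Set.range g.base ⊆ (CohB1.genLocus _ s : Set X) := by
  classical
  -- finitely many affine generating loci covering the image
  have hcpt : IsCompact (Set.range g.base) := isCompact_range g.continuous
  choose n t hxt htW hta using fun y : Spec (CommRingCat.of A) =>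
    TMul.exists_mem_le hL (hg ⟨y, rfl⟩)
  obtain ⟨T, hT⟩ := hcpt.elim_finite_subcover
    (fun y => (CohB1.genLocus _ (t y) : Set X)) (fun y => (CohB1.genLocus _ (t y)).2)
    (by rintro _ ⟨y, rfl⟩; exact Set.mem_iUnion.mpr ⟨y, hxt y⟩)
  let ι := Fin T.card
  let el : ι → Spec (CommRingCat.of A) := fun i => T.equivFin.symm i
  obtain ⟨N, hN⟩ : ∃ N, N + 1 = ∏ y : ι, (n (el y) + 1) :=
    ⟨_, Nat.sub_add_cancel (Finset.prod_pos fun z _ => Nat.succ_pos _)⟩
  choose t' ht' using fun y : ι =>
    TMul.exists_genLocus_pow hL.1 (N := N)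
      (hN ▸ Finset.dvd_prod_of_mem (fun y : ι => n (el y) + 1) (Finset.mem_univ y)) (t (el y))
  have hM : PicF.IsInvertible (CohB1.tensorPow L (N + 1)) := TMul.isInvertible_tensorPow hL.1 (N + 1)
  have ht'a : ∀ y, IsAffineOpen (CohB1.genLocus _ (t' y)) := fun y => (ht' y).symm ▸ hta _
  have ht'W : ∀ y, CohB1.genLocus _ (t' y) ≤ W := fun y => (ht' y).le.trans (htW _)
  -- local data on `Spec A`
  have key : ∀ y : Spec (CommRingCat.of A), ∃ (O : (Spec (CommRingCat.of A)).Opens) (b : ι → A),
      y ∈ O ∧ (∀ y' ∈ O, ∃ i, b i ∉ y'.asIdeal) ∧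
      ∀ (m : ℕ) (σ : Coh.structureModule X ⟶ CohB1.tensorPow (CohB1.tensorPow L (N + 1)) m)
        (F : MvPolynomial ι ℤ), F.IsHomogeneous m →
        (∀ (U : X.Opens) (e : Γ(CohB1.tensorPow L (N + 1), U)) (c : ι → Γ(X, U)),
          (∀ i, TMul.val (t' i) U = c i • e) →
            TMul.val σ U = MvPolynomial.aeval c F • TMul.pw e m) →
        ∀ y' ∈ O, MvPolynomial.aeval b F ∉ y'.asIdeal → g.base y' ∈ CohB1.genLocus _ σ := by
    intro y
    obtain ⟨U, e, hxU, he⟩ := TMul.exists_isGen hM (g.base y)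
    choose c hc using fun i => (he U le_rfl).2 (TMul.val (t' i) U)
    simp only [Groth.Agent.QC.res_self] at hc
    have hA : IsAffineOpen (⊤ : (Spec (CommRingCat.of A)).Opens) := isAffineOpen_top _
    obtain ⟨r, hrle, hyr⟩ := hA.exists_basicOpen_le (V := g ⁻¹ᵁ U) ⟨y, hxU⟩ trivial
    haveI := hA.isLocalization_basicOpen r
    let φ := (g.appLE U ((Spec (CommRingCat.of A)).basicOpen r) hrle).hom
    obtain ⟨⟨_, nn, rfl⟩, hs⟩ := IsLocalization.exist_integer_multiples_of_finset
      (Submonoid.powers r) (Finset.univ.image fun i => φ (c i))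
    choose b hb using fun i => hs (φ (c i)) (Finset.mem_image_of_mem _ (Finset.mem_univ i))
    have hb' : (fun i => algebraMap Γ(Spec (CommRingCat.of A), ⊤) _ (b i)) =
        fun i => algebraMap Γ(Spec (CommRingCat.of A), ⊤) _ (r ^ nn) * φ (c i) := by
      funext i
      rw [hb i, Algebra.smul_def]
    have hΓ : ∀ (f : Γ(Spec (CommRingCat.of A), ⊤)) (y' : Spec (CommRingCat.of A)),
        y' ∈ (Spec (CommRingCat.of A)).basicOpen f ↔
          (Scheme.ΓSpecIso (CommRingCat.of A)).hom f ∉ y'.asIdeal := fun f y' => by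
      rw [basicOpen_eq_of_affine']
      rfl
    have hres : ∀ (f : Γ(Spec (CommRingCat.of A), ⊤)) (y' : Spec (CommRingCat.of A)),
        y' ∈ (Spec (CommRingCat.of A)).basicOpen r →
        (y' ∈ (Spec (CommRingCat.of A)).basicOpen
            (algebraMap Γ(Spec (CommRingCat.of A), ⊤)
              Γ(Spec (CommRingCat.of A), (Spec (CommRingCat.of A)).basicOpen r) f) ↔
          y' ∈ (Spec (CommRingCat.of A)).basicOpen f) := fun f y' hy' => by
      rw [show (Spec (CommRingCat.of A)).basicOpen (algebraMap Γ(Spec (CommRingCat.of A), ⊤)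
          Γ(Spec (CommRingCat.of A), (Spec (CommRingCat.of A)).basicOpen r) f) =
          (Spec (CommRingCat.of A)).basicOpen r ⊓ (Spec (CommRingCat.of A)).basicOpen f from
        Scheme.basicOpen_res _ f _]
      exact ⟨fun h => h.2, fun h => ⟨hy', h⟩⟩
    refine ⟨(Spec (CommRingCat.of A)).basicOpen r,
      fun i => (Scheme.ΓSpecIso (CommRingCat.of A)).hom (b i), hyr, fun y' hy' => ?_,
      fun m σ F hF hσ y' hy' hFb => ?_⟩
    · obtain ⟨z, hzT, hz⟩ := Set.mem_iUnion₂.mp (hT ⟨y', rfl⟩)
      refine ⟨T.equivFin ⟨z, hzT⟩, (hΓ _ y').mp ((hres _ y' hy').mp ?_)⟩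
      set i := T.equivFin ⟨z, hzT⟩
      have hi : g.base y' ∈ CohB1.genLocus _ (t' i) := by
        rw [ht' i, show el i = z from congrArg Subtype.val (T.equivFin.symm_apply_apply ⟨z, hzT⟩)]
        exact hz
      have hmem : g.base y' ∈ X.basicOpen (c i) := by
        rw [← TMul.genLocus_inf (t' i) he (hc i).symm]
        exact ⟨hrle hy', hi⟩
      rw [congrFun hb' i, Scheme.basicOpen_mul, Scheme.basicOpen_appLE]
      refine ⟨(hres _ y' hy').mpr ((hΓ _ y').mpr ?_), hy', hmem⟩
      rw [map_pow]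
      exact fun h => (hΓ r y').mp hy' (y'.2.mem_of_pow_mem _ h)
    · have hval := hσ U e c fun i => (hc i).symm
      have := (TMul.genLocus_inf σ (TMul.isGen_pw he m) hval)
      suffices hmem : g.base y' ∈ X.basicOpen (MvPolynomial.aeval c F) from (this.ge hmem).2
      have h1 := (hres _ y' hy').mpr ((hΓ (MvPolynomial.aeval b F) y').mpr (by
        rw [map_aeval_int]; exact hFb))
      rw [map_aeval_int, show (algebraMap Γ(Spec (CommRingCat.of A), ⊤)
          Γ(Spec (CommRingCat.of A), (Spec (CommRingCat.of A)).basicOpen r)) = _ from rfl] at h1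
      rw [hb',
        aeval_mul_of_isHomogeneous hF, Scheme.basicOpen_mul] at h1
      have h2 : MvPolynomial.aeval (fun i => φ (c i)) F = φ (MvPolynomial.aeval c F) := by
        rw [map_aeval_int]
      rw [h2, Scheme.basicOpen_appLE] at h1
      exact h1.2.2
  choose O b hyO hirr hσ using key
  obtain ⟨T', hT'⟩ := isCompact_univ.elim_finite_subcover
    (fun y => (O y : Set (Spec (CommRingCat.of A)))) (fun y => (O y).2)
    (fun y _ => Set.mem_iUnion.mpr ⟨y, hyO y⟩)
  -- the finitely many primes to avoid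
  let A₀ : Spec (CommRingCat.of A) → Subalgebra k A := fun y => Algebra.adjoin k (Set.range (b y))
  haveI hfin : ∀ y, Module.Finite k (A₀ y) := fun y => Module.Finite.iff_fg.mpr
    (fg_adjoin_of_finite (Set.finite_range _) fun x _ => Algebra.IsIntegral.isIntegral x)
  haveI : ∀ y, IsArtinianRing (A₀ y) := fun y => IsArtinianRing.of_finite k (A₀ y)
  let ev : ∀ y, MvPolynomial ι ℤ →ₐ[ℤ] A₀ y := fun y =>
    MvPolynomial.aeval fun i => (⟨b y i, Algebra.subset_adjoin ⟨i, rfl⟩⟩ : A₀ y)
  have hP₀ : (⋃ y ∈ T', Set.range fun p : PrimeSpectrum (A₀ y) => Ideal.comap (ev y) p.asIdeal).Finite :=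
    T'.finite_toSet.biUnion fun y _ => Set.finite_range _
  let P := hP₀.toFinset.filter fun p =>
    ¬ (HomogeneousIdeal.irrelevant (MvPolynomial.homogeneousSubmodule ι ℤ)).toIdeal ≤ p
  obtain ⟨F, m, hm, hF, -, hFP⟩ := GrAvoid.exists_notMem (MvPolynomial.homogeneousSubmodule ι ℤ)
    _ (HomogeneousIdeal.irrelevant (MvPolynomial.homogeneousSubmodule ι ℤ)).isHomogeneous P
    (fun p hp => by
      obtain ⟨hp, hirr'⟩ := Finset.mem_filter.mp hp
      obtain ⟨y, -, q, rfl⟩ := Set.mem_iUnion₂.mp (hP₀.mem_toFinset.mp hp)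
      exact ⟨q.2.comap _, hirr', hirr'⟩)
  obtain ⟨σ, hσF, hσa, hσW⟩ := exists_polynomial_section hM t' ht'a ht'W F hm hF
  have hcov : Set.range g.base ⊆ (CohB1.genLocus _ σ : Set X) := by
    rintro _ ⟨y', rfl⟩
    obtain ⟨y, hy, hy'⟩ := Set.mem_iUnion₂.mp (hT' (Set.mem_univ y'))
    refine hσ y m σ F hF hσF y' hy' ?_
    let q : PrimeSpectrum (A₀ y) := ⟨y'.asIdeal.comap (A₀ y).val, y'.2.comap _⟩
    have hcomp : ∀ G, ((ev y G : A₀ y) : A) = MvPolynomial.aeval (b y) G := fun G => by
      induction G using MvPolynomial.induction_on <;> simp_all [ev]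
    have hmem : Ideal.comap (ev y) q.asIdeal ∈ P := by
      refine Finset.mem_filter.mpr ⟨hP₀.mem_toFinset.mpr (Set.mem_iUnion₂.mpr ⟨y, hy, q, rfl⟩),
        fun hle => ?_⟩
      obtain ⟨i, hi⟩ := hirr y y' hy'
      apply hi
      have := hle (show MvPolynomial.X i ∈ _ from
        HomogeneousIdeal.mem_irrelevant_of_mem _ Nat.one_pos
          ((MvPolynomial.mem_homogeneousSubmodule 1 _).mpr (MvPolynomial.isHomogeneous_X ℤ i)))
      simpa [q, hcomp] using this
    intro h
    exact hFP _ hmem (show ((ev y F : A₀ y) : A) ∈ y'.asIdeal by rw [hcomp]; exact h)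
  obtain ⟨m', rfl⟩ := Nat.exists_eq_succ_of_ne_zero hm.ne'
  obtain ⟨ε⟩ := TMul.nonempty_powMulIso L (N + 1) (m' + 1)
  obtain ⟨K, hK⟩ : ∃ K, (N + 1) * (m' + 1) = K + 1 := ⟨N * m' + N + m', by ring⟩
  refine ⟨K, σ ≫ (ε ≪≫ eqToIso (congrArg (CohB1.tensorPow L) hK)).hom, ?_⟩
  rw [TMul.genLocus_comp]
  exact ⟨hσa, hσW, hcov⟩

end Groth.Agent.AmpleIntegralPts
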